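import Cfsg.Agent.H322.NH.Tool
import Cfsg.Agent.H436.HeFive
import Cfsg.Agent.H153.ZerosHe
import Cfsg.Agent.H148.Ru.CentSeven
import Cfsg.Agent.H573.Spor.Ru

/-! # Rows of the nilpotent Hall cluster: `He`, `Ru` (helper322) -/

set_option autoImplicit false

namespace Cfsg.Agent.H322.NH

open Cfsg Subgroup Cfsg.Agent.H630.NH Cfsg.Agent.H241.NH Cfsg.Agent.H393.Iso

namespace HeR

theorem card : Nat.card Spor.He = 4030387200 := KFacts.He.Classes.card_he
theorem fin : Finite Spor.He := Nat.finite_of_card_ne_zero (by rw [card]; norm_num)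

theorem nc17 {q : ℕ} (hq : q.Prime) (hne : 17 ≠ q) (hd : q ∣ 4030387200) : NC 17 q Spor.He := by
  have := fin
  refine nc_of_le (a := 1) (b := 17) (by norm_num) hq hne H153.Zeros.He17.o17 (by rw [card, pow_one]; exact hd)
    H153.Zeros.He17.card_cent ?_
  have := hq.two_le
  rw [pow_one]
  omega

theorem nc5 {q : ℕ} (hq : q.Prime) (hne : 5 ≠ q) {a : ℕ} (hd : q ^ a ∣ 4030387200) (hlt : 300 < 5 ^ 2 * q ^ a) :
    NC 5 q Spor.He := by
  have := fin
  exact nc_of_le2 (by norm_num) hq hne H436.HeFive.orderX (by rw [card]; exact hd) (by rw [card]; norm_num)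
    H436.HeFive.card_le hlt

theorem nc7 {q : ℕ} (hq : q.Prime) (hne : 7 ≠ q) {a : ℕ} (hd : q ^ a ∣ 4030387200) (hlt : 196 < 7 ^ 2 * q ^ a) :
    NC 7 q Spor.He := by
  have := fin
  exact nc_of_le2 (by norm_num) hq hne CpAutHe.Seven.order1 (by rw [card]; exact hd) (by rw [card]; norm_num)
    CpAutHe.Bound.card1 hlt

end HeR

theorem row_he {G : Type*} [Group G] [Finite G] [IsSimpleGroup G] (h : Spor.IsoHe G) : Row G := by
  have hN := NotCT.Orders.he h
  obtain ⟨e⟩ := id h
  refine row_of (N := 4030387200) (k := 10) hN [3, 5, 7, 17] [3, 7] [] 5 [] ?_ ?_ ?_ ?_ ?_ ?_ ?_ ?_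
  · decide
  · decide
  · decide
  · exact ab_of_not_cube (by norm_num) (by rw [hN]; norm_num)
  · have h3 : ∀ q ∈ [5, 7, 17], NC 3 q G := by
      intro q hq
      simp only [List.mem_cons, List.not_mem_nil, or_false] at hq
      rcases hq with rfl | rfl | rfl
      · exact (HeR.nc5 (q := 3) (a := 3) (by norm_num) (by norm_num) (by norm_num) (by norm_num)).symm.congr e.symm
      · exact (HeR.nc7 (q := 3) (a := 3) (by norm_num) (by norm_num) (by norm_num) (by norm_num)).symm.congr e.symm
      · exact (HeR.nc17 (q := 3) (by norm_num) (by norm_num) (by norm_num)).symm.congr e.symm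
    have h7 : ∀ q ∈ [3, 5, 17], NC 7 q G := by
      intro q hq
      simp only [List.mem_cons, List.not_mem_nil, or_false] at hq
      rcases hq with rfl | rfl | rfl
      · exact (HeR.nc7 (q := 3) (a := 3) (by norm_num) (by norm_num) (by norm_num) (by norm_num)).congr e.symm
      · exact (HeR.nc7 (q := 5) (a := 1) (by norm_num) (by norm_num) (by norm_num) (by norm_num)).congr e.symm
      · exact (HeR.nc7 (q := 17) (a := 1) (by norm_num) (by norm_num) (by norm_num) (by norm_num)).congr e.symm
    intro p hp q hq hne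
    simp only [List.mem_cons, List.not_mem_nil, or_false] at hp hq
    rcases hp with rfl | rfl
    · apply h3
      rcases hq with rfl | rfl | rfl | rfl
      · exact absurd rfl hne
      all_goals simp
    · apply h7
      rcases hq with rfl | rfl | rfl | rfl
      · simp
      · simp
      · exact absurd rfl hne
      · simp
  · intro r hr; exact absurd hr (by simp)
  · intro a ha; exact absurd ha (by simp)
  · decide

namespace RuR

open Cfsg.Agent.SporadicB Cfsg.Agent.RuD.Letters Cfsg.Agent.SporRec.TCUpperCert Cfsg.Agent.KFacts.Ru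
  Cfsg.Agent.KFacts.Ru.CentEng

theorem card : Nat.card RuOrder.H = 145926144000 := RuOrder.card_H
theorem fin : Finite RuOrder.H := Nat.finite_of_card_ne_zero (by rw [card]; norm_num)

theorem cen_eq (w : List ℕ) : centralizer ({wprod ml w} : Set RuOrder.H) = Cen [w] := by
  ext x
  rw [mem_centralizer_singleton_iff]
  constructor
  · intro h v hv
    rw [List.mem_singleton.1 hv]
    exact h
  · intro h
    exact h _ (List.mem_singleton.2 rfl)

theorem nc7 {q : ℕ} (hq : q.Prime) (hne : 7 ≠ q) {a : ℕ} (hd : q ^ a ∣ 145926144000) (hlt : 28 < 7 * q ^ a) :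
    NC 7 q RuOrder.H := by
  have := fin
  exact nc_of_le (by norm_num) hq hne H148.Ru.orderC (by rw [card]; exact hd)
    (by rw [cen_eq]; exact H148.Ru.card_C) hlt

theorem nc13 {q : ℕ} (hq : q.Prime) (hne : 13 ≠ q) {a : ℕ} (hd : q ^ a ∣ 145926144000) (hlt : 52 < 13 * q ^ a) :
    NC 13 q RuOrder.H := by
  have := fin
  exact nc_of_le (by norm_num) hq hne H436.RuCent.orderB (by rw [card]; exact hd)
    (by rw [cen_eq]; exact H436.RuCent.card_B) hlt

theorem nc29 {q : ℕ} (hq : q.Prime) (hne : 29 ≠ q) {a : ℕ} (hd : q ^ a ∣ 145926144000) (hlt : 58 < 29 * q ^ a) :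
    NC 29 q RuOrder.H := by
  have := fin
  exact nc_of_le (by norm_num) hq hne H436.RuCent.orderA (by rw [card]; exact hd)
    (by rw [cen_eq]; exact H436.RuCent.card_A) hlt

theorem nc5 {q : ℕ} (hq : q.Prime) (hne : 5 ≠ q) {a : ℕ} (hd : q ^ a ∣ 145926144000) (hlt : 300 < 5 ^ 2 * q ^ a) :
    NC 5 q RuOrder.H := by
  have := fin
  exact nc_of_le2 (by norm_num) hq hne CpAutRuFive.orderB (by rw [card]; exact hd) (by rw [card]; norm_num)
    (by rw [cen_eq]; exact CpAutRuFive.Cert.card_B) hlt

end RuR

theorem row_ru {G : Type*} [Group G] [Finite G] [IsSimpleGroup G] (h : Spor.IsoRu G) : Row G := by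
  have hN := NotCT.Orders.ru h
  obtain ⟨e'⟩ := id h
  have e := (e'.trans Cfsg.Agent.RuLat.Main.equiv).symm
  refine row_of (N := 145926144000) (k := 14) hN [3, 5, 7, 13, 29] [3, 5] [29] 7 [] ?_ ?_ ?_ ?_ ?_ ?_ ?_ ?_
  · decide
  · decide
  · decide
  · exact ab_of_not_cube (by norm_num) (by rw [hN]; norm_num)
  · have h3 : ∀ q ∈ [5, 7, 13, 29], NC 3 q G := by
      intro q hq
      simp only [List.mem_cons, List.not_mem_nil, or_false] at hq
      rcases hq with rfl | rfl | rfl | rfl
      · exact (RuR.nc5 (q := 3) (a := 3) (by norm_num) (by norm_num) (by norm_num) (by norm_num)).symm.congr e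
      · exact (RuR.nc7 (q := 3) (a := 3) (by norm_num) (by norm_num) (by norm_num) (by norm_num)).symm.congr e
      · exact (RuR.nc13 (q := 3) (a := 3) (by norm_num) (by norm_num) (by norm_num) (by norm_num)).symm.congr e
      · exact (RuR.nc29 (q := 3) (a := 3) (by norm_num) (by norm_num) (by norm_num) (by norm_num)).symm.congr e
    have h5 : ∀ q ∈ [3, 7, 13, 29], NC 5 q G := by
      intro q hq
      simp only [List.mem_cons, List.not_mem_nil, or_false] at hq
      rcases hq with rfl | rfl | rfl | rfl
      · exact (RuR.nc5 (q := 3) (a := 3) (by norm_num) (by norm_num) (by norm_num) (by norm_num)).congr e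
      · exact (RuR.nc7 (q := 5) (a := 3) (by norm_num) (by norm_num) (by norm_num) (by norm_num)).symm.congr e
      · exact (RuR.nc13 (q := 5) (a := 3) (by norm_num) (by norm_num) (by norm_num) (by norm_num)).symm.congr e
      · exact (RuR.nc29 (q := 5) (a := 3) (by norm_num) (by norm_num) (by norm_num) (by norm_num)).symm.congr e
    intro p hp q hq hne
    simp only [List.mem_cons, List.not_mem_nil, or_false] at hp hq
    rcases hp with rfl | rfl
    · apply h3
      rcases hq with rfl | rfl | rfl | rfl | rfl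
      · exact absurd rfl hne
      all_goals simp
    · apply h5
      rcases hq with rfl | rfl | rfl | rfl | rfl
      · simp
      · exact absurd rfl hne
      all_goals simp
  · intro r hr
    obtain rfl := List.mem_singleton.1 hr
    exact solv_of_na (by norm_num) (by rw [hN]; norm_num) (na_ru h)
  · intro a ha; exact absurd ha (by simp)
  · decide

end Cfsg.Agent.H322.NH
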